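import Groth.Agent.H1LCZ.QCoh
import Groth.Agent.KFlatLib.Scheme.RpushBound
import Groth.Agent.QCoh.Bound
import Groth.Agent.KFlatLib.Scheme.RpushQCoh

/-!
# Vanishing of local cohomology sheaves above the number of equations
-/

set_option autoImplicit false
set_option linter.style.haveILetI false
set_option backward.isDefEq.respectTransparency false
set_option backward.isDefEq.respectTransparency.types false
set_option maxHeartbeats 1000000

universe u

open CategoryTheory CategoryTheory.Limits AlgebraicGeometry TopologicalSpace Opposite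

noncomputable section

namespace Groth.Agent.LocCohVan7

open QCoh

/-- Higher direct images vanish near an affine open on whose basic opens the cohomology vanishes. -/
theorem isZero_Rpush_near {X Y : Scheme.{u}} (f : X ⟶ Y) [HasInjectiveResolutions X.Modules]
    {V₀ : Y.Opens} (hV₀ : IsAffineOpen V₀) (M : X.Modules) (q : ℕ)
    (hd : ∀ b : Γ(Y, V₀), Subsingleton
      (CohTop.HU (X := X.toPresheafedSpace.carrier) (abSheaf M) (q + 1) (f ⁻¹ᵁ Y.basicOpen b))) :
    IsZero ((Scheme.Modules.restrictFunctor V₀.ι).obj ((Coh.Rpush f (q + 1)).obj M)) := by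
  obtain ⟨e⟩ := nonempty_Rpush_iso f M q
  let R := Scheme.Modules.restrictFunctor V₀.ι
  let g := (Scheme.Modules.pushforward f).map (godπ M q)
  haveI : R.IsLeftAdjoint := (Scheme.Modules.restrictAdjunction V₀.ι).isLeftAdjoint
  haveI : Epi (R.map g) := by
    haveI : (toAbFunctor V₀.toScheme).Faithful :=
      inferInstanceAs (SheafOfModules.toSheaf _).Faithful
    haveI : Epi ((toAbFunctor V₀.toScheme).map (R.map g)) := by
      refine (TopCat.Sheaf.isLocallySurjective_iff_epi _).1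
        ((TopCat.Presheaf.isLocallySurjective_iff _).2 fun U t y hy => ?_)
      have hy' : y.1 ∈ V₀.ι ''ᵁ U := ⟨y, hy, rfl⟩
      obtain ⟨b, hb, hyb⟩ := hV₀.exists_basicOpen_le (V := V₀.ι ''ᵁ U) ⟨y.1, hy'⟩ y.2
      refine ⟨V₀.ι ⁻¹ᵁ Y.basicOpen b, fun z hz => ?_, ?_, hyb⟩
      · obtain ⟨z', hz', he⟩ := hb hz
        exact Subtype.ext he ▸ hz'
      have hsub : Subsingleton (CohTop.HU (X := X.toPresheafedSpace.carrier) (abSheaf M) (q + 1)
          (f ⁻¹ᵁ (V₀.ι ''ᵁ (V₀.ι ⁻¹ᵁ Y.basicOpen b)))) := by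
        rw [V₀.ι.image_preimage_eq_opensRange_inf, Scheme.Opens.opensRange_ι,
          inf_eq_right.2 (Y.basicOpen_le b)]
        exact hd b
      exact godπ_app_surjective hsub _
    exact (toAbFunctor V₀.toScheme).epi_of_epi_map inferInstance
  exact ((isZero_cokernel_of_epi (R.map g)).of_iso (PreservesCokernel.iso R g)).of_iso (R.mapIso e)

variable {X : Scheme.{u}} (U : X.Opens)

/-- The local equations on an affine neighbourhood. -/
theorem exists_affine_equations (c : ℕ)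
    (hT : ∀ x : X, ∃ (V : X.Opens) (fs : Finset Γ(X, V)), x ∈ V ∧ fs.card ≤ c ∧
      X.zeroLocus (U := V) (↑fs : Set Γ(X, V)) ∩ (V : Set ↥X) = (U : Set ↥X)ᶜ ∩ (V : Set ↥X)) (x : X) :
    ∃ (V : X.Opens) (t : ℕ) (g : Fin t → Γ(X, V)), IsAffineOpen V ∧ x ∈ V ∧ t ≤ c ∧
      V ⊓ U = ⨆ i, X.basicOpen (g i) := by
  obtain ⟨V, fs, hxV, hc, heq⟩ := hT x
  obtain ⟨_, ⟨W, hW, rfl⟩, hxW, hWV⟩ :=
    X.isBasis_affineOpens.exists_subset_of_mem_open (show x ∈ V from hxV) V.2
  have hWV' : W ≤ V := hWV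
  refine ⟨W, fs.card, fun i => X.presheaf.map (homOfLE hWV').op (fs.equivFin.symm i).1, hW, hxW, hc, ?_⟩
  apply Opens.ext
  ext y
  simp only [Opens.coe_inf, Set.mem_inter_iff, SetLike.mem_coe, Opens.mem_iSup, Scheme.basicOpen_res]
  have hiff : y ∈ V → ((∃ f ∈ fs, y ∈ X.basicOpen f) ↔ y ∈ U) := fun hy => by
    constructor
    · rintro ⟨f, hf, hyf⟩
      by_contra hyU
      have h2 : y ∈ X.zeroLocus (U := V) (↑fs : Set Γ(X, V)) := ((Set.ext_iff.1 heq y).2 ⟨hyU, hy⟩).1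
      exact (X.mem_zeroLocus_iff (↑fs : Set Γ(X, V)) y).1 h2 f hf hyf
    · intro hyU
      by_contra hne
      push Not at hne
      exact ((Set.ext_iff.1 heq y).1 ⟨(X.mem_zeroLocus_iff (↑fs : Set Γ(X, V)) y).2 hne, hy⟩).1 hyU
  constructor
  · rintro ⟨hyW, hyU⟩
    obtain ⟨f, hf, hyf⟩ := (hiff (hWV' hyW)).2 hyU
    exact ⟨fs.equivFin ⟨f, hf⟩, hyW, by rw [Equiv.symm_apply_apply]; exact hyf⟩
  · rintro ⟨i, hyW, hyf⟩
    exact ⟨hyW, (hiff (hWV' hyW)).1 ⟨_, (fs.equivFin.symm i).2, hyf⟩⟩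

variable [HasInjectiveResolutions X.Modules]

/-- The vanishing. -/
theorem isZero_rightDerived_gammaZ (c : ℕ)
    (hT : ∀ x : X, ∃ (V : X.Opens) (fs : Finset Γ(X, V)), x ∈ V ∧ fs.card ≤ c ∧
      X.zeroLocus (U := V) (↑fs : Set Γ(X, V)) ∩ (V : Set ↥X) = (U : Set ↥X)ᶜ ∩ (V : Set ↥X))
    (F : X.Modules) (hF : Coh.IsQCoh F) (i : ℕ) (hi : c < i) :
    IsZero (((DCoh.gammaZ U.ι).rightDerived i).obj F) := by
  haveI := SpObjSS.enoughInjectives_of_hasInjectiveResolutions (C := X.Modules)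
  haveI : HasInjectiveResolutions (U : Scheme.{u}).Modules := inferInstance
  obtain _ | _ | q := i
  · omega
  · obtain rfl : c = 0 := by omega
    obtain ⟨e⟩ := SiteBase.nonempty_rightDerived_one_iso (H1LCZ.ιGammaZ U.ι) (Scheme.Modules.restrictAdjunction U.ι).unit
      (H1LCZ.wGammaZ U.ι) (H1LCZ.hkerGammaZ U.ι) (H1LCZ.epi_unit_of_injectiveMod U.ι)
    have hU : U = ⊥ := bot_unique fun x hx => by
      obtain ⟨V, t, g, -, hxV, ht, heq⟩ := exists_affine_equations U 0 hT x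
      obtain rfl : t = 0 := Nat.le_zero.1 ht
      have hxi : x ∈ ⨆ i, X.basicOpen (g i) := by rw [← heq]; exact ⟨hxV, hx⟩
      obtain ⟨i, -⟩ := Opens.mem_iSup.1 hxi
      exact i.elim0
    subst hU
    haveI : IsEmpty ((⊥ : X.Opens) : Scheme.{u}) := ⟨fun z => z.2.elim⟩
    have hz0 : IsZero ((Scheme.Modules.restrictFunctor (⊥ : X.Opens).ι).obj F) :=
      KFlatLib.isZero_of_stalk _ fun (z : ((⊥ : X.Opens) : Scheme.{u})) => (IsEmpty.false z).elim
    haveI := QCoh.preservesFiniteLimits_push (⊥ : X.Opens).ι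
    have hz : IsZero ((H1LCZ.resPush (⊥ : X.Opens).ι).obj F) :=
      Functor.map_isZero (Scheme.Modules.pushforward (⊥ : X.Opens).ι) hz0
    haveI : Epi ((Scheme.Modules.restrictAdjunction (⊥ : X.Opens).ι).unit.app F) :=
      ⟨fun a b _ => hz.eq_of_src a b⟩
    refine IsZero.of_iso ?_ (e.app F)
    exact (isZero_cokernel_of_epi ((Scheme.Modules.restrictAdjunction (⊥ : X.Opens).ι).unit.app F)).of_iso
      (((cokernelIsCokernel ((Scheme.Modules.restrictAdjunction (⊥ : X.Opens).ι).unit.app F))).coconePointUniqueUpToIso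
        (SiteBase.cokerAt (Scheme.Modules.restrictAdjunction (⊥ : X.Opens).ι).unit F)).symm
  · obtain ⟨e⟩ := SiteBase.nonempty_rightDerived_succ_iso (H1LCZ.ιGammaZ U.ι) (Scheme.Modules.restrictAdjunction U.ι).unit
      (H1LCZ.wGammaZ U.ι) (H1LCZ.hkerGammaZ U.ι) (H1LCZ.epi_unit_of_injectiveMod U.ι) q
    obtain ⟨e'⟩ := H1LCZ.nonempty_resPush_iso U.ι q F
    refine IsZero.of_iso (IsZero.of_iso ?_ e') (e.app F)
    refine KFlatLib.isZero_of_isZero_restrict _ fun x => ?_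
    obtain ⟨V, t, g, hV, hxV, htc, heq⟩ := exists_affine_equations U c hT x
    refine ⟨V, hxV, isZero_Rpush_near U.ι hV _ q fun b => ?_⟩
    let Q : (U : Scheme.{u}).Opens → Prop := fun W =>
      ∃ a : Γ(X, V), X.basicOpen a ≤ U ∧ W = U.ι ⁻¹ᵁ X.basicOpen a
    have hg : ∀ j, X.basicOpen (g j) ≤ U := fun j =>
      ((le_iSup (fun j => X.basicOpen (g j)) j).trans heq.ge).trans inf_le_right
    have hcov : U.ι ⁻¹ᵁ X.basicOpen b = ⨆ j, U.ι ⁻¹ᵁ X.basicOpen (b * g j) := by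
      apply Opens.ext
      ext z
      simp only [SetLike.mem_coe, Opens.mem_iSup, Scheme.basicOpen_mul, Scheme.Hom.mem_preimage]
      constructor
      · intro hz
        have h2 : U.ι z ∈ ⨆ j, X.basicOpen (g j) := by rw [← heq]; exact ⟨X.basicOpen_le b hz, z.2⟩
        obtain ⟨j, hj⟩ := Opens.mem_iSup.1 h2
        exact ⟨j, hz, hj⟩
      · rintro ⟨j, hz, -⟩
        exact hz
    rw [hcov]
    exact subsingleton_HU_iSup (isQCoh_restrict U.ι hF) Q
      (fun W ⟨a, ha, hW⟩ => hW ▸ (hV.basicOpen a).preimage_of_isOpenImmersion U.ι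
        (by rw [Scheme.Opens.opensRange_ι]; exact ha))
      (fun W W' ⟨a, ha, hW⟩ ⟨a', _, hW'⟩ => ⟨a * a', by rw [Scheme.basicOpen_mul]; exact inf_le_left.trans ha,
        by rw [hW, hW', Scheme.basicOpen_mul]; rfl⟩)
      t _ (fun j => ⟨b * g j, by rw [Scheme.basicOpen_mul]; exact inf_le_right.trans (hg j), rfl⟩) (q + 1) (by omega)

end Groth.Agent.LocCohVan7
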