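import Groth.Agent.KoszulFlatLib.OfExact
import Groth.Agent.WiebeLib.Koszul
import Groth.Agent.S9264
import Groth.Agent.S9265
import Groth.Agent.H9Misc.KonLib
import Groth.Agent.KoszulLim.Main
import Groth.Agent.KoszulLim.Global
import Groth.Agent.H1LCZ.Depth
import Groth.Agent.QCoh.Stalk
import Mathlib.RingTheory.Flat.CategoryTheory
import Mathlib.CategoryTheory.Preadditive.AdditiveFunctor

/-!
# Local cohomology below the length of a Koszul-regular sequence
-/

set_option autoImplicit false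
set_option linter.style.haveILetI false
set_option backward.isDefEq.respectTransparency false
set_option backward.isDefEq.respectTransparency.types false
set_option maxHeartbeats 1000000

universe u

open CategoryTheory CategoryTheory.Limits AlgebraicGeometry TopologicalSpace Opposite

noncomputable section

namespace Groth.Agent.LocCohVan7

open Groth.Agent.H9Misc

section Algebra

open MonoidalCategory

variable {R : Type u} [CommRing R]

/-- Koszul regularity is preserved by flat maps. -/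
theorem isKoszulRegularSeq_map {R S : Type u} [CommRing R] [CommRing S] [Algebra R S] [Module.Flat R S]
    (l : List R) (h : LCI.IsKoszulRegularSeq R l) : LCI.IsKoszulRegularSeq S (l.map (algebraMap R S)) := by
  have h1 := KoszulFlatLib.isKoszulRegularSeq_of_isExact
    (WiebeLib.isExact_map (S := S) (WiebeLib.isExact_of_isKoszulRegularSeq l.get (by rwa [List.ofFn_get])))
  rwa [← Function.comp_def, ← List.map_ofFn, List.ofFn_get] at h1

lemma nonempty_F_obj (f : R) {Y : DRing.Cx R} (ψ : Y ⟶ Y) (h : ψ = f • 𝟙 Y) :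
    Nonempty (CochainComplex.mappingCone ψ ≅ (KonLib.F f).obj Y) := by
  subst h; exact ⟨Iso.refl _⟩

lemma nonempty_kon_map (G : ModuleCat.{u} R ⥤ ModuleCat.{u} R) [G.Additive] [G.Linear R] (M : ModuleCat.{u} R)
    (e : G.obj (ModuleCat.of R R) ≅ M) : ∀ fs : List R,
    Nonempty ((G.mapHomologicalComplex (ComplexShape.up ℤ)).obj ((KonLib.kon fs).obj
      ((HomologicalComplex.single (ModuleCat.{u} R) (ComplexShape.up ℤ) 0).obj (ModuleCat.of R R))) ≅
        (KonLib.kon fs).obj ((HomologicalComplex.single (ModuleCat.{u} R) (ComplexShape.up ℤ) 0).obj M))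
  | [] => ⟨(HomologicalComplex.singleMapHomologicalComplex G (ComplexShape.up ℤ) 0).app _ ≪≫
      (HomologicalComplex.single (ModuleCat.{u} R) (ComplexShape.up ℤ) 0).mapIso e⟩
  | f :: r => by
    obtain ⟨i⟩ := nonempty_kon_map G M e r
    let X := (KonLib.kon r).obj
      ((HomologicalComplex.single (ModuleCat.{u} R) (ComplexShape.up ℤ) 0).obj (ModuleCat.of R R))
    have h : (G.mapHomologicalComplex (ComplexShape.up ℤ)).map (f • 𝟙 X) = f • 𝟙 _ := by
      ext n : 1
      show G.map (f • 𝟙 (X.X n)) = f • 𝟙 _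
      rw [G.map_smul, CategoryTheory.Functor.map_id]
      rfl
    obtain ⟨j⟩ := nonempty_F_obj f _ h
    exact ⟨(CochainComplex.mappingCone.mapHomologicalComplexIso (f • 𝟙 X) G ≪≫ j) ≪≫ (KonLib.F f).mapIso i⟩

theorem isZero_kon_of_flat (fs : List R) (hfs : LCI.IsKoszulRegularSeq R fs) (M : ModuleCat.{u} R) [Module.Flat R M]
    (q : ℤ) (hq : q ≠ 0) :
    IsZero (((KonLib.kon fs).obj
      ((HomologicalComplex.single (ModuleCat.{u} R) (ComplexShape.up ℤ) 0).obj M)).homology q) := by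
  haveI : PreservesFiniteLimits (tensorLeft M) :=
    (Module.Flat.iff_preservesFiniteLimits_tensorLeft M).1 inferInstance
  obtain ⟨i⟩ := nonempty_kon_map (tensorLeft M) M (ρ_ M) fs
  obtain ⟨k⟩ := KonLib.nonempty_koszul fs
  let X := (KonLib.kon fs).obj
    ((HomologicalComplex.single (ModuleCat.{u} R) (ComplexShape.up ℤ) 0).obj (ModuleCat.of R R))
  have h0 : IsZero (X.homology q) :=
    (hfs q hq).of_iso ((HomologicalComplex.homologyFunctor _ _ q).mapIso k)
  refine IsZero.of_iso ?_ ((HomologicalComplex.homologyFunctor _ _ q).mapIso i).symm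
  exact ((tensorLeft M).map_isZero h0).of_iso ((X.sc q).mapHomologyIso (tensorLeft M))

/-- For a Koszul-regular sequence the Čech complex of a flat module lives in the top degree. -/
theorem isZero_extCechH_of_flat (fs : List R) (hfs : LCI.IsKoszulRegularSeq R fs) (M : ModuleCat.{u} R)
    [Module.Flat R M] (q : ℤ) (hq : q ≠ (fs.length : ℤ)) : IsZero (DerCA.extCechH fs M q) := by
  by_contra hne
  have hrange : 0 ≤ q ∧ q < (fs.length : ℤ) := by
    refine ⟨?_, ?_⟩ <;> by_contra hc <;>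
      exact hne (Groth.Agent.S9264.result R fs M q (by omega))
  classical
  have hex : ∃ m : ℕ, ¬ IsZero (DerCA.extCechH fs M (m : ℤ)) :=
    ⟨q.toNat, by rwa [Int.toNat_of_nonneg hrange.1]⟩
  let j : ℕ := Nat.find hex
  have hj : (j : ℤ) ≤ q := by
    have := Nat.find_le (h := hex) (n := q.toNat) (by rwa [Int.toNat_of_nonneg hrange.1])
    change j ≤ q.toNat at this
    omega
  have hlow : ∀ q' < (j : ℤ), IsZero (DerCA.extCechH fs M q') := fun q' hq' => by
    rcases lt_or_ge q' 0 with h | h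
    · exact Groth.Agent.S9264.result R fs M q' (Or.inl h)
    · by_contra hz
      have := Nat.find_le (h := hex) (n := q'.toNat) (by rwa [Int.toNat_of_nonneg h])
      change j ≤ q'.toNat at this
      omega
  obtain ⟨-, h2, -⟩ := KonLib.lowest (DerCA.extCech M fs) (j : ℤ) hlow
    (Nat.find_spec hex) fs (fun f hf x => by
      obtain ⟨n, -, hn⟩ := Groth.Agent.S9265.result R fs M (j : ℤ) x
      exact ⟨n, hn f hf⟩)
  obtain ⟨e1⟩ := KonLib.nonempty_homology_iso fs M fs (fun g hg => hg) ((j : ℤ) - fs.length)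
  exact h2 ((isZero_kon_of_flat fs hfs M _ (by omega)).of_iso e1)

end Algebra

variable {X : Scheme.{u}}

/-- Cohomology with supports on an affine open below the length of the sequence. -/
theorem subsingleton_HZ_of_koszul {W : X.Opens} (hW : IsAffineOpen W) (gs : List Γ(X, W))
    (hgs : LCI.IsKoszulRegularSeq Γ(X, W) gs) (U : X.Opens)
    (hU : W ⊓ U = ⨆ i : Fin gs.length, X.basicOpen (gs.get i))
    (F : X.Modules) (hF : Coh.IsQCoh F) (hFl : FlatMod.IsFlat F) (i : ℕ) (hi : i < gs.length) :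
    Subsingleton (LocCohZ.HZ (X := X.carrier) (Coh.toAb F) i (inf_le_left : W ⊓ U ≤ W)) := by
  let j := hW.fromSpec
  let N : ModuleCat.{u} Γ(X, W) := moduleSpecΓFunctor.obj (F.restrict j)
  haveI : IsIso (F.restrict j).fromTildeΓ :=
    isQuasicoherent_iff_isIso_fromTildeΓ _ |>.1 (QCoh.isQCoh_restrict j hF)
  haveI : Module.Flat Γ(X, W) Γ(F, W) := (QCoh.flat_sections_iff hF hW).2 fun x _ => hFl x
  haveI : Module.Flat Γ(X, W) N := Module.Flat.of_linearEquiv (QCoh.chartEquiv hW F).symm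
  have hsup : j ⁻¹ᵁ U = KoszulLim.sup (A := Γ(X, W)) gs := by
    have h1 : j ⁻¹ᵁ U = j ⁻¹ᵁ (W ⊓ U) := by
      rw [Scheme.Hom.preimage_inf, hW.fromSpec_preimage_self, top_inf_eq]
    rw [h1, hU, Scheme.Hom.preimage_iSup, ← KoszulLim.iSup_fam gs]
    refine le_antisymm (iSup_le fun i => ?_) (iSup_le fun i => ?_)
    · rw [hW.fromSpec_preimage_basicOpen]
      exact le_iSup (fun a : ULift.{u} (Fin gs.length) => KoszulLim.bO (gs.get a.down)) ⟨i⟩
    · refine le_iSup_of_le i.down ?_
      rw [hW.fromSpec_preimage_basicOpen]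
  have h0 : Subsingleton (LocCohZ.HZ (KoszulLim.ab N) i (le_top : KoszulLim.sup (A := Γ(X, W)) gs ≤ ⊤)) := by
    obtain ⟨e⟩ := KoszulLim.nonempty_addEquiv_HZ gs N i
    obtain ⟨e'⟩ := KoszulLim.nonempty_linearEquiv N gs i
    haveI := ModuleCat.subsingleton_of_isZero (isZero_extCechH_of_flat gs hgs N (i : ℤ) (by omega))
    exact (e.symm.toEquiv.trans e'.toEquiv).subsingleton
  obtain ⟨e⟩ := H1LCZ.nonempty_HZ_restr (X := X.carrier) (Y := (Spec Γ(X, W)).carrier) j.isOpenEmbedding
    (le_top : KoszulLim.sup (A := Γ(X, W)) gs ≤ ⊤) (inf_le_left : W ⊓ U ≤ W)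
    (by rw [← hsup]; exact H1LCZ.fromSpec_image_preimage hW U)
    (QCoh.image_top_fromSpec hW) (Coh.toAb F) i
  let eAb : Coh.toAb (tilde N) ≅ (QCoh.Ab.restr j.isOpenEmbedding).obj (Coh.toAb F) :=
    (SheafOfModules.toSheaf (Spec Γ(X, W)).ringCatSheaf).mapIso (asIso (F.restrict j).fromTildeΓ)
  exact e.toEquiv.subsingleton_congr.2 ((H1LCZ.subsingleton_HZ_congr (X := (Spec Γ(X, W)).carrier) eAb _ i).1 h0)

/-- A Koszul-regular sequence of equations restricts to smaller affine opens. -/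
theorem exists_restrict_koszul {V W : X.Opens} (hV : IsAffineOpen V) (hW : IsAffineOpen W) (hWV : W ≤ V)
    (fs : List Γ(X, V)) (hfs : LCI.IsKoszulRegularSeq Γ(X, V) fs) (U : X.Opens)
    (hU : X.zeroLocus (U := V) {a | a ∈ fs} ∩ (V : Set ↥X) = (U : Set ↥X)ᶜ ∩ (V : Set ↥X)) :
    ∃ gs : List Γ(X, W), gs.length = fs.length ∧ LCI.IsKoszulRegularSeq Γ(X, W) gs ∧
      W ⊓ U = ⨆ i : Fin gs.length, X.basicOpen (gs.get i) := by
  letI : Algebra Γ(X, V) Γ(X, W) := (X.presheaf.map (homOfLE hWV).op).hom.toAlgebra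
  haveI : Module.Flat Γ(X, V) Γ(X, W) := by
    have h := Scheme.Hom.flat_appLE (𝟙 X) hV hW hWV
    simp only [Scheme.Hom.appLE, Scheme.Hom.id_app, Category.id_comp] at h
    exact RingHom.flat_algebraMap_iff.1 h
  refine ⟨fs.map (algebraMap Γ(X, V) Γ(X, W)), List.length_map _,
    isKoszulRegularSeq_map fs hfs, ?_⟩
  have hiff : ∀ y : X, y ∈ V → ((∃ f ∈ fs, y ∈ X.basicOpen f) ↔ y ∈ U) := fun y hy => by
    constructor
    · rintro ⟨f, hf, hyf⟩
      by_contra hyU
      exact (X.mem_zeroLocus_iff _ y).1 ((Set.ext_iff.1 hU y).2 ⟨hyU, hy⟩).1 f hf hyf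
    · intro hyU
      by_contra hne
      push Not at hne
      exact ((Set.ext_iff.1 hU y).1 ⟨(X.mem_zeroLocus_iff _ y).2 hne, hy⟩).1 hyU
  apply Opens.ext
  ext y
  simp only [Opens.coe_inf, Set.mem_inter_iff, SetLike.mem_coe, Opens.mem_iSup]
  constructor
  · rintro ⟨hyW, hyU⟩
    obtain ⟨f, hf, hyf⟩ := (hiff y (hWV hyW)).2 hyU
    obtain ⟨i, hi⟩ := List.get_of_mem (List.mem_map_of_mem (f := algebraMap Γ(X, V) Γ(X, W)) hf)
    refine ⟨i, ?_⟩
    rw [hi, RingHom.algebraMap_toAlgebra]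
    show y ∈ X.basicOpen ((X.presheaf.map (homOfLE hWV).op).hom f)
    rw [Scheme.basicOpen_res]
    exact ⟨hyW, hyf⟩
  · rintro ⟨i, hy⟩
    obtain ⟨f, hf, hfi⟩ := List.mem_map.1 (List.get_mem (fs.map (algebraMap Γ(X, V) Γ(X, W))) i)
    rw [← hfi, RingHom.algebraMap_toAlgebra] at hy
    change y ∈ X.basicOpen ((X.presheaf.map (homOfLE hWV).op).hom f) at hy
    rw [Scheme.basicOpen_res] at hy
    exact ⟨hy.1, (hiff y (hWV hy.1)).1 ⟨f, hf, hy.2⟩⟩

end Groth.Agent.LocCohVan7

end
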